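import Mathlib
import Groth.Prelude.Def_ModSite
import Groth.Prelude.Def_AlgSpPerf
import Groth.Agent.Lib.Helper30.ModEpi
import Groth.Agent.Lib.Helper30.FreeTerminal
import Groth.Agent.Lib.Helper74.ModQc.FreeOnMap

/-!
# Local lifting of maps out of summands of finite free modules on a ringed site (helper74)

Site version of helper30's `LocalLift`: the transport `Tr g` of morphisms `A|_V ⟶ B|_V` to
`A|_{V'} ⟶ B|_{V'}` along `g : V' ⟶ V`, and local lifting through exact sequences.
-/

set_option autoImplicit false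
universe u
open CategoryTheory Limits Opposite

namespace Groth.Agent.Lib.Helper74.LocLift
open Groth.Agent.Lib.Helper30 Groth.Agent.Lib.Helper30.FreeTerminal
open Groth.Agent.Lib.Helper74.ModQc

variable {C : Type u} [SmallCategory C] {J : GrothendieckTopology C} (O : Sheaf J CommRingCat.{u})

noncomputable section

/-- restriction of modules to `C/V` (Mathlib's `overFunctor`, with Mathlib's types). -/
abbrev rs (V : C) : SheafOfModules.{u} (ModSite.ringSh O) ⥤
    SheafOfModules.{u} ((ModSite.ringSh O).over V) :=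
  SheafOfModules.overFunctor (ModSite.ringSh O) V

instance rs_preservesFiniteColimits (V : C) : PreservesFiniteColimits (rs O V) :=
  ModEpi.restr_preservesFiniteColimits O V

instance rs_additive (V : C) : (rs O V).Additive := ModEpi.restr_additive O V

/-- restriction to `V'` in two steps. -/
def cIso {V' V : C} (g : V' ⟶ V) :
    rs O V ⋙ SheafOfModules.overMap (ModSite.ringSh O) g ≅ rs O V' :=
  SheafOfModules.overFunctorMap (ModSite.ringSh O) g

/-- transport of a morphism over `V` to a morphism over `V'` along `g : V' ⟶ V`. -/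
def Tr {V' V : C} (g : V' ⟶ V) {A B : SheafOfModules.{u} (ModSite.ringSh O)}
    (f : (rs O V).obj A ⟶ (rs O V).obj B) :
    (rs O V').obj A ⟶ (rs O V').obj B :=
  (cIso O g).inv.app A ≫ (SheafOfModules.overMap (ModSite.ringSh O) g).map f ≫ (cIso O g).hom.app B

lemma cIso_inv_hom_app {V' V : C} (g : V' ⟶ V) (A : SheafOfModules.{u} (ModSite.ringSh O)) :
    (cIso O g).inv.app A ≫ (cIso O g).hom.app A = 𝟙 _ := by
  rw [← NatTrans.comp_app, Iso.inv_hom_id]; rfl

lemma cIso_hom_inv_app {V' V : C} (g : V' ⟶ V) (A : SheafOfModules.{u} (ModSite.ringSh O)) :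
    (cIso O g).hom.app A ≫ (cIso O g).inv.app A = 𝟙 _ := by
  rw [← NatTrans.comp_app, Iso.hom_inv_id]; rfl

lemma Tr_comp {V' V : C} (g : V' ⟶ V) {A B D : SheafOfModules.{u} (ModSite.ringSh O)}
    (f : (rs O V).obj A ⟶ (rs O V).obj B)
    (f' : (rs O V).obj B ⟶ (rs O V).obj D) :
    Tr O g (f ≫ f') = Tr O g f ≫ Tr O g f' := by
  unfold Tr
  simp only [Functor.map_comp, Category.assoc]
  rw [reassoc_of% (cIso_hom_inv_app O g B)]

lemma Tr_add {V' V : C} (g : V' ⟶ V) {A B : SheafOfModules.{u} (ModSite.ringSh O)}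
    (f f' : (rs O V).obj A ⟶ (rs O V).obj B) :
    Tr O g (f + f') = Tr O g f + Tr O g f' := by
  unfold Tr
  rw [Functor.map_add, Preadditive.add_comp, Preadditive.comp_add]

lemma Tr_sub {V' V : C} (g : V' ⟶ V) {A B : SheafOfModules.{u} (ModSite.ringSh O)}
    (f f' : (rs O V).obj A ⟶ (rs O V).obj B) :
    Tr O g (f - f') = Tr O g f - Tr O g f' := by
  unfold Tr
  rw [Functor.map_sub, Preadditive.sub_comp, Preadditive.comp_sub]

lemma Tr_zero {V' V : C} (g : V' ⟶ V) {A B : SheafOfModules.{u} (ModSite.ringSh O)} :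
    Tr O g (0 : (rs O V).obj A ⟶ (rs O V).obj B) = 0 := by
  unfold Tr
  rw [Functor.map_zero, zero_comp, comp_zero]

lemma Tr_map {V' V : C} (g : V' ⟶ V) {A B : SheafOfModules.{u} (ModSite.ringSh O)} (φ : A ⟶ B) :
    Tr O g ((rs O V).map φ) = (rs O V').map φ := by
  unfold Tr
  have hn := (cIso O g).hom.naturality φ
  have h2 : (SheafOfModules.overMap (ModSite.ringSh O) g).map ((rs O V).map φ) =
      (rs O V ⋙ SheafOfModules.overMap (ModSite.ringSh O) g).map φ := rfl
  rw [h2, hn, ← Category.assoc, cIso_inv_hom_app, Category.id_comp]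

/-- `Tr` on sections. -/
lemma Tr_app {V' V : C} (g : V' ⟶ V) {A B : SheafOfModules.{u} (ModSite.ringSh O)}
    (f : (rs O V).obj A ⟶ (rs O V).obj B) (X : Over V')
    (x : A.val.obj (op X.left)) :
    (Tr O g f).val.app (op X) x = f.val.app (op ((Over.map g).obj X)) x := rfl

/-- the sieve of arrows lying in all the sieves of a family -/
def interSieve {V : C} {ι : Type u} (S : ι → Sieve V) : Sieve V where
  arrows W g := ∀ k, S k g
  downward_closed := fun h f k => (S k).downward_closed (h k) f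

lemma interSieve_mem (J : GrothendieckTopology C) {V : C}
    {ι : Type u} [Finite ι] (S : ι → Sieve V) (h : ∀ k, S k ∈ J V) : interSieve S ∈ J V := by
  classical
  have : Fintype ι := Fintype.ofFinite ι
  have key : ∀ T : Finset ι, ∃ R ∈ J V, ∀ ⦃W : C⦄ (g : W ⟶ V), R g → ∀ k ∈ T, S k g := by
    intro T
    induction T using Finset.induction_on with
    | empty => exact ⟨⊤, J.top_mem V, fun W g _ k hk => absurd hk (Finset.notMem_empty k)⟩
    | insert a T _ ih =>
      obtain ⟨R, hR, hR'⟩ := ih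
      refine ⟨S a ⊓ R, J.intersection_covering (h a) hR, fun W g hg k hk => ?_⟩
      rcases Finset.mem_insert.mp hk with rfl | hk
      · exact hg.1
      · exact hR' g hg.2 k hk
  obtain ⟨R, hR, hR'⟩ := key Finset.univ
  exact J.superset_covering (fun W g hg k => hR' g hg k (Finset.mem_univ k)) hR

variable {O}

/-- exactness of a short complex of modules gives local lifts of sections. -/
lemma exists_cover_lift_of_exact (S : ShortComplex (SheafOfModules.{u} (ModSite.ringSh O)))
    (hS : S.Exact) (W : C) (z : S.X₂.val.obj (op W)) (hz : secMap S.g W z = 0) :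
    ∃ R ∈ J W, ∀ ⦃V : C⦄ (h : V ⟶ W), R h →
      ∃ y : S.X₁.val.obj (op V), secMap S.f V y = S.X₂.val.map h.op z := by
  have hx : ofSec O z ≫ S.g = 0 := by
    rw [ofSec_comp, hz]
    apply toSec_injective
    rw [toSec_ofSec]
    have h := toSec_comp (O := O) (𝟙 (ModSite.freeOn O W)) (0 : ModSite.freeOn O W ⟶ S.X₃)
    rw [comp_zero] at h
    rw [h, secMap_zero]
  obtain ⟨A', π, hπ, x₁, hx₁⟩ := (ShortComplex.exact_iff_exact_up_to_refinements S).1 hS
    (ofSec O z) hx
  obtain ⟨R, hR, hlift⟩ := exists_cover_lift π (toSec O (𝟙 (ModSite.freeOn O W)))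
  refine ⟨R, hR, fun V h hh => ?_⟩
  obtain ⟨t, ht⟩ := hlift h hh
  refine ⟨secMap x₁ V t, ?_⟩
  rw [← secMap_comp, ← hx₁, secMap_comp, ht, ← secMap_map, ← toSec_comp, Category.id_comp,
    toSec_ofSec]

/-- local lifting of a map out of a summand of a finite free module through an exact sequence. -/
theorem exists_local_lift_exact {A : SheafOfModules.{u} (ModSite.ringSh O)}
    (hA : DCoh.IsFinFreeSummandMod (ModSite.ringSh O) A)
    (S : ShortComplex (SheafOfModules.{u} (ModSite.ringSh O))) (hS : S.Exact) (V : C)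
    (β : (rs O V).obj A ⟶ (rs O V).obj S.X₂) (hβ : β ≫ (rs O V).map S.g = 0) :
    ∃ T ∈ J V, ∀ ⦃V' : C⦄ (g : V' ⟶ V), T g →
      ∃ ℓ : (rs O V').obj A ⟶ (rs O V').obj S.X₁, ℓ ≫ (rs O V').map S.f = Tr O g β := by
  classical
  obtain ⟨n, i, r, hir⟩ := hA
  let β' : (rs O V).obj (SheafOfModules.free (R := ModSite.ringSh O) (ULift.{u} (Fin n))) ⟶
      (rs O V).obj S.X₂ := (rs O V).map r ≫ β
  have hβ' : β' ≫ (rs O V).map S.g = 0 := by
    change ((rs O V).map r ≫ β) ≫ (rs O V).map S.g = 0
    rw [Category.assoc, hβ, comp_zero]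
  let σ : ULift.{u} (Fin n) → S.X₂.val.obj (op V) := fun k =>
    β'.val.app (op (Over.mk (𝟙 V))) (eF k V)
  have hσ : ∀ k, secMap S.g V (σ k) = 0 := by
    intro k
    have h := congrArg (fun φ : (rs O V).obj (SheafOfModules.free (R := ModSite.ringSh O)
      (ULift.{u} (Fin n))) ⟶ (rs O V).obj S.X₃ => φ.val.app (op (Over.mk (𝟙 V))) (eF k V)) hβ'
    exact h
  choose T hT hlift using fun k => exists_cover_lift_of_exact S hS V (σ k) (hσ k)
  refine ⟨interSieve T, interSieve_mem J T hT, ?_⟩
  intro V' g hg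
  choose t ht using fun k => hlift k g (hg k)
  let hTm := Over.mkIdTerminal (X := V')
  let lam : SheafOfModules.free (ULift.{u} (Fin n)) ⟶ (rs O V').obj S.X₁ :=
    freeDesc hTm ((rs O V').obj S.X₁) t
  let e : SheafOfModules.free (ULift.{u} (Fin n)) ≅
      (rs O V').obj (SheafOfModules.free (ULift.{u} (Fin n))) :=
    SheafOfModules.mapFreeIso (rs O V') (ULift.{u} (Fin n)) (Iso.refl _)
  refine ⟨(rs O V').map i ≫ e.inv ≫ lam, ?_⟩
  have hβ2 : β = (rs O V).map i ≫ β' := by
    change β = (rs O V).map i ≫ (rs O V).map r ≫ β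
    rw [← Category.assoc, ← Functor.map_comp, hir, CategoryTheory.Functor.map_id, Category.id_comp]
  rw [hβ2, Tr_comp, Tr_map, Category.assoc, Category.assoc]
  congr 1
  rw [Iso.inv_comp_eq]
  apply free_hom_ext hTm
  intro k
  have hL : (lam ≫ (rs O V').map S.f).val.app (op (Over.mk (𝟙 V'))) (eF k (Over.mk (𝟙 V'))) =
      secMap S.f V' (t k) := by
    have h1 := freeDesc_eF hTm ((rs O V').obj S.X₁) t k
    change ((rs O V').map S.f).val.app (op (Over.mk (𝟙 V')))
      (lam.val.app (op (Over.mk (𝟙 V'))) (eF k (Over.mk (𝟙 V')))) = _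
    rw [h1]
    rfl
  have hR1 : e.hom.val.app (op (Over.mk (𝟙 V'))) (eF k (Over.mk (𝟙 V'))) =
      (eF k V' : (SheafOfModules.free (R := ModSite.ringSh O)
        (ULift.{u} (Fin n))).val.obj (op V')) := by
    have h2 := SheafOfModules.ιFree_mapFreeIso_hom (rs O V') (ULift.{u} (Fin n))
      (Iso.refl _) k
    have h2' : SheafOfModules.ιFree k ≫ e.hom =
        (rs O V').map (SheafOfModules.ιFree k) := by
      refine h2.trans ?_
      exact Category.id_comp _
    have h3 := congrArg (fun v => v.val.app (op (Over.mk (𝟙 V')))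
      (1 : ((ModSite.ringSh O).over V').obj.obj (op (Over.mk (𝟙 V'))))) h2'
    exact h3
  have hR : (e.hom ≫ Tr O g β').val.app (op (Over.mk (𝟙 V'))) (eF k (Over.mk (𝟙 V'))) =
      S.X₂.val.map g.op (σ k) := by
    change (Tr O g β').val.app (op (Over.mk (𝟙 V')))
      (e.hom.val.app (op (Over.mk (𝟙 V'))) (eF k (Over.mk (𝟙 V')))) = _
    rw [hR1, Tr_app]
    let a : (Over.map g).obj (Over.mk (𝟙 V')) ⟶ Over.mk (𝟙 V) := Over.homMk g (by simp)
    have hn := PresheafOfModules.naturality_apply β'.val a.op (eF k V)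
    have he : (SheafOfModules.free (R := ModSite.ringSh O) (ULift.{u} (Fin n))).val.map g.op
        (eF k V) = eF k V' := eF_map k g
    refine Eq.trans ?_ hn
    exact congrArg _ he.symm
  rw [hL, hR]
  exact ht k

end

end Groth.Agent.Lib.Helper74.LocLift
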