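import Groth.Agent.Lib.Helper74.LocLift.Core

/-!
# Maps from strictly perfect complexes to acyclic complexes are locally null-homotopic (helper74)

Site version of helper30's `S0932`: on a small ringed site, a map from a strictly perfect complex
vanishing below `a` to a complex acyclic in degrees `≥ a` is null-homotopic on the arrows of a
covering sieve of any given object.
-/

set_option autoImplicit false
universe u
open CategoryTheory Limits Opposite

namespace Groth.Agent.Lib.Helper74.LocLift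

variable {C : Type u} [SmallCategory C] {J : GrothendieckTopology C} (O : Sheaf J CommRingCat.{u})
  {E F : CochainComplex (SheafOfModules.{u} (ModSite.ringSh O)) ℤ} (α : E ⟶ F)

/-- a family of candidate homotopy components over `V`. -/
abbrev Fam (E F : CochainComplex (SheafOfModules.{u} (ModSite.ringSh O)) ℤ) (V : C) :=
  ∀ p q : ℤ, (rs O V).obj (E.X p) ⟶ (rs O V).obj (F.X q)

/-- the homotopy relation in degree `k` over `V`. -/
def Rel (V : C) (h : Fam O E F V) (k : ℤ) : Prop :=
  ∀ (k' k'' : ℤ), k' + 1 = k → k + 1 = k'' →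
    (rs O V).map (α.f k) =
      (rs O V).map (E.d k k'') ≫ h k'' k + h k k' ≫ (rs O V).map (F.d k' k)

lemma Rel_Tr {V' V : C} (g : V' ⟶ V) (h : Fam O E F V) (k : ℤ) (hk : Rel O α V h k) :
    Rel O α V' (fun p q => Tr O g (h p q)) k := by
  intro k' k'' h1 h2
  rw [← Tr_map O g, hk k' k'' h1 h2, Tr_add, Tr_comp, Tr_comp, Tr_map, Tr_map]

lemma Rel_of_isZero (V : C) (h : Fam O E F V) (k : ℤ) (hk : IsZero (E.X k)) : Rel O α V h k := by
  intro k' k'' _ _
  exact ((rs O V).map_isZero hk).eq_of_src _ _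

/-- the inductive step: extend the relations one degree down. -/
lemma step (hfl : ∀ i, DCoh.IsFinFreeSummandMod (ModSite.ringSh O) (E.X i)) (i : ℤ)
    (hFi : IsZero (F.homology i))
    (V : C) (h : Fam O E F V) (H : ∀ k, i < k → Rel O α V h k) :
    ∃ T ∈ J V, ∀ ⦃V' : C⦄ (g : V' ⟶ V), T g →
      ∃ h' : Fam O E F V', ∀ k, i ≤ k → Rel O α V' h' k := by
  let rV := rs O V
  let S : ShortComplex (SheafOfModules.{u} (ModSite.ringSh O)) := F.sc' (i - 1) i (i + 1)
  have hS : S.Exact :=
    (F.exactAt_iff' (i - 1) i (i + 1) (by simp) (by simp)).mp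
      ((F.exactAt_iff_isZero_homology i).mpr hFi)
  let β : rV.obj (E.X i) ⟶ rV.obj (F.X i) := rV.map (α.f i) - rV.map (E.d i (i + 1)) ≫ h (i + 1) i
  have hβ : β ≫ rV.map (F.d i (i + 1)) = 0 := by
    have hR := H (i + 1) (by omega) i (i + 1 + 1) rfl rfl
    have hcomm : rV.map (α.f i) ≫ rV.map (F.d i (i + 1)) =
        rV.map (E.d i (i + 1)) ≫ rV.map (α.f (i + 1)) := by
      rw [← Functor.map_comp, ← Functor.map_comp, α.comm]
    have hdd : rV.map (E.d i (i + 1)) ≫ rV.map (E.d (i + 1) (i + 1 + 1)) = 0 := by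
      rw [← Functor.map_comp, E.d_comp_d, Functor.map_zero]
    change (rV.map (α.f i) - rV.map (E.d i (i + 1)) ≫ h (i + 1) i) ≫ rV.map (F.d i (i + 1)) = 0
    rw [Preadditive.sub_comp, hcomm, hR, Preadditive.comp_add, reassoc_of% hdd, zero_comp, zero_add,
      Category.assoc, sub_self]
  obtain ⟨T, hT, hl⟩ := exists_local_lift_exact (hfl i) S hS V β hβ
  refine ⟨T, hT, fun V' g hg => ?_⟩
  obtain ⟨ℓ0, hℓ0⟩ := hl g hg
  let ℓ : (rs O V').obj (E.X i) ⟶ (rs O V').obj (F.X (i - 1)) := ℓ0
  have hℓ : ℓ ≫ (rs O V').map (F.d (i - 1) i) = Tr O g β := hℓ0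
  let h₀ : Fam O E F V' := fun p q => Tr O g (h p q)
  let h' : Fam O E F V' := Function.update h₀ i (Function.update (h₀ i) (i - 1) ℓ)
  refine ⟨h', ?_⟩
  intro k hk
  rcases eq_or_lt_of_le hk with rfl | hk
  · intro k' k'' h1 h2
    obtain rfl : k' = i - 1 := by omega
    subst h2
    have e1 : h' (i + 1) i = h₀ (i + 1) i := by
      change Function.update h₀ i (Function.update (h₀ i) (i - 1) ℓ) (i + 1) i = _
      rw [Function.update_of_ne (by omega)]
    have e2 : h' i (i - 1) = ℓ := by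
      change Function.update h₀ i (Function.update (h₀ i) (i - 1) ℓ) i (i - 1) = _
      rw [Function.update_self, Function.update_self]
    rw [e1, e2]
    rw [hℓ]
    change _ = _ + Tr O g (rV.map (α.f i) - rV.map (E.d i (i + 1)) ≫ h (i + 1) i)
    rw [Tr_sub, Tr_map, Tr_comp, Tr_map]
    abel
  · have e : ∀ q, h' k q = h₀ k q := by
      intro q
      change Function.update h₀ i (Function.update (h₀ i) (i - 1) ℓ) k q = _
      rw [Function.update_of_ne (by omega)]
    intro k' k'' h1 h2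
    have e1 : h' k'' k = h₀ k'' k := by
      change Function.update h₀ i (Function.update (h₀ i) (i - 1) ℓ) k'' k = _
      rw [Function.update_of_ne (by omega)]
    rw [e1, e k']
    exact Rel_Tr O α g h k (H k hk) k' k'' h1 h2

lemma exists_partial (hfl : ∀ i, DCoh.IsFinFreeSummandMod (ModSite.ringSh O) (E.X i)) (a b : ℤ)
    (hEa : ∀ i : ℤ, i < a → IsZero (E.X i)) (hEb : ∀ i : ℤ, b < i → IsZero (E.X i))
    (hF : ∀ i : ℤ, a ≤ i → IsZero (F.homology i)) (V₀ : C) (m : ℕ) :
    ∃ T ∈ J V₀, ∀ ⦃V : C⦄ (g : V ⟶ V₀), T g →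
      ∃ h : Fam O E F V, ∀ k, b - m < k → Rel O α V h k := by
  induction m with
  | zero =>
    exact ⟨⊤, J.top_mem _, fun V g _ => ⟨fun _ _ => 0, fun k hk =>
      Rel_of_isZero O α _ _ k (hEb k (by simpa using hk))⟩⟩
  | succ m ih =>
    obtain ⟨T, hT, H⟩ := ih
    by_cases hi : a ≤ b - m
    · have key : ∀ ⦃V : C⦄ (g : V ⟶ V₀), T g → ∃ T' ∈ J V, ∀ ⦃V' : C⦄ (g' : V' ⟶ V), T' g' →
          ∃ h' : Fam O E F V', ∀ k, b - m ≤ k → Rel O α V' h' k := by
        intro V g hg
        obtain ⟨h, Hh⟩ := H g hg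
        exact step O α hfl (b - m) (hF _ hi) V h Hh
      choose T' hT' H' using key
      refine ⟨Sieve.bind T (fun V g hg => T' g hg), J.bind_covering hT (fun V g hg => hT' g hg), ?_⟩
      rintro V f ⟨W, g', g, hg, hg', rfl⟩
      obtain ⟨h', Hh'⟩ := H' g hg g' hg'
      refine ⟨h', fun k hk => Hh' k ?_⟩
      push_cast at hk
      omega
    · refine ⟨T, hT, fun V g hg => ?_⟩
      obtain ⟨h, Hh⟩ := H g hg
      refine ⟨h, fun k hk => ?_⟩
      push_cast at hk
      by_cases hk' : b - m < k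
      · exact Hh k hk'
      · exact Rel_of_isZero O α _ _ k (hEa k (by omega))

/-- the homotopy assembled from a family satisfying all relations. -/
noncomputable def mkHomotopy (V : C) (h : Fam O E F V) (H : ∀ k, Rel O α V h k) :
    Homotopy (((rs O V).mapHomologicalComplex (ComplexShape.up ℤ)).map α) 0 where
  hom p q := if q + 1 = p then h p q else 0
  zero p q hpq := if_neg hpq
  comm k := by
    rw [dNext_eq _ (show (ComplexShape.up ℤ).Rel k (k + 1) from rfl),
      prevD_eq _ (show (ComplexShape.up ℤ).Rel (k - 1) k by simp)]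
    rw [if_pos rfl, if_pos (by omega : k - 1 + 1 = k)]
    simp only [HomologicalComplex.zero_f, add_zero]
    exact H k (k - 1) (k + 1) (by omega) rfl

/-- On a small ringed site, let `E` be a strictly perfect complex of modules vanishing in degrees
`< a`, and `F` a complex with `H^i(F) = 0` for `i ≥ a`. Then every chain map `α : E ⟶ F` is
null-homotopic on the arrows of a covering sieve of any object `V`. -/
theorem exists_cover_nullHomotopic (hE : DCoh.IsStrictlyPerfectMod (ModSite.ringSh O) E) (a : ℤ)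
    (hEa : ∀ i : ℤ, i < a → IsZero (E.X i))
    (hF : ∀ i : ℤ, a ≤ i → IsZero (F.homology i)) (V : C) :
    ∃ T ∈ J V, ∀ ⦃W : C⦄ (g : W ⟶ V), T g →
      Nonempty (Homotopy (((rs O W).mapHomologicalComplex (ComplexShape.up ℤ)).map α) 0) := by
  obtain ⟨⟨a', b, hab⟩, hfl⟩ := hE
  have hEb : ∀ i : ℤ, b < i → IsZero (E.X i) := fun i hi => hab i (Or.inr hi)
  obtain ⟨T, hT, H⟩ := exists_partial O α hfl a b hEa hEb hF V (b - a + 1).toNat
  refine ⟨T, hT, fun W g hg => ?_⟩
  obtain ⟨h, Hh⟩ := H g hg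
  refine ⟨mkHomotopy O α W h fun k => ?_⟩
  by_cases hk : b - ((b - a + 1).toNat : ℤ) < k
  · exact Hh k hk
  · have h1 : b - a + 1 ≤ ((b - a + 1).toNat : ℤ) := Int.self_le_toNat _
    exact Rel_of_isZero O α _ _ k (hEa k (by omega))

end Groth.Agent.Lib.Helper74.LocLift
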